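import Groth.Agent.PBW.Basic
import Groth.Agent.PLie.Jacobson

/-!
# The restricted enveloping algebra and its PBW basis
-/

noncomputable section

set_option autoImplicit false
set_option linter.unusedSectionVars false

namespace Groth.Agent.PBW.Res

open Module PLie
open scoped Classical

universe u v

attribute [local instance 100] LieRing.ofAssociativeRing

variable {k : Type u} [Field k] {p : ℕ} [Fact p.Prime] [CharP k p]
variable {L : Type v} [LieRing L] [LieAlgebra k L] (φ : PMap k p L)
variable {n : ℕ} (b : Basis (Fin n) k L)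

local notation "U" => UniversalEnvelopingAlgebra k L

variable (k) in
/-- the canonical map to the enveloping algebra -/
def io : L →ₗ[k] U := (UniversalEnvelopingAlgebra.ι k (L := L) : L →ₗ⁅k⁆ U).toLinearMap

theorem io_apply (x : L) : io k x = UniversalEnvelopingAlgebra.ι k x := rfl

theorem io_lie (x y : L) : io k ⁅x, y⁆ = io k x * io k y - io k y * io k x := iota_lie x y

/-- the induction principle for the enveloping algebra -/
theorem induction {P : U → Prop} (hr : ∀ r : k, P (algebraMap k U r)) (hi : ∀ x : L, P (io k x))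
    (hm : ∀ a c, P a → P c → P (a * c)) (ha : ∀ a c, P a → P c → P (a + c)) (a : U) : P a := by
  obtain ⟨t, rfl⟩ : ∃ t, UniversalEnvelopingAlgebra.mkAlgHom k L t = a := RingCon.mkₐ_surjective _ a
  induction t using TensorAlgebra.induction with
  | algebraMap r => rw [AlgHom.commutes]; exact hr r
  | ι x => exact hi x
  | mul x y hx hy => rw [map_mul]; exact hm _ _ hx hy
  | add x y hx hy => rw [map_add]; exact ha _ _ hx hy

section Filt

variable (k L) in
/-- span of the products of fewer than `d` elements of `L` -/
def G (d : ℕ) : Submodule k U :=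
  Submodule.span k {a | ∃ l : List L, l.length < d ∧ (l.map (io k)).prod = a}

theorem prod_mem_G (l : List L) {d : ℕ} (h : l.length < d) : (l.map (io k)).prod ∈ G k L d :=
  Submodule.subset_span ⟨l, h, rfl⟩

theorem G_mono {c d : ℕ} (h : c ≤ d) : G k L c ≤ G k L d :=
  Submodule.span_mono fun _ ⟨l, hl, e⟩ => ⟨l, lt_of_lt_of_le hl h, e⟩

theorem mul_mem_G {a c : U} {i j : ℕ} (ha : a ∈ G k L (i + 1)) (hc : c ∈ G k L (j + 1)) :
    a * c ∈ G k L (i + j + 1) := by
  induction ha using Submodule.span_induction with
  | mem x hx =>
    obtain ⟨l, hl, rfl⟩ := hx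
    induction hc using Submodule.span_induction with
    | mem y hy =>
      obtain ⟨m, hm, rfl⟩ := hy
      rw [← List.prod_append, ← List.map_append]
      exact prod_mem_G _ (by rw [List.length_append]; omega)
    | zero => simp
    | add y z _ _ h1 h2 => rw [mul_add]; exact Submodule.add_mem _ h1 h2
    | smul r y _ h => rw [mul_smul_comm]; exact Submodule.smul_mem _ r h
  | zero => simp
  | add y z _ _ h1 h2 => rw [add_mul]; exact Submodule.add_mem _ h1 h2
  | smul r y _ h => rw [smul_mul_assoc]; exact Submodule.smul_mem _ r h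

theorem perm_sub_mem {l m : List L} (h : l.Perm m) :
    (l.map (io k)).prod - (m.map (io k)).prod ∈ G k L l.length := by
  induction h with
  | nil => simp
  | cons x h ih =>
    rename_i l₁ l₂
    rw [List.map_cons, List.map_cons, List.prod_cons, List.prod_cons, ← mul_sub, List.length_cons]
    have hx : io k x ∈ G k L (1 + 1) := by
      simpa using prod_mem_G (k := k) [x] (show 1 < 1 + 1 by omega)
    rcases Nat.eq_zero_or_pos l₁.length with h0 | h0
    · have e : l₁ = [] := List.length_eq_zero_iff.1 h0
      subst e
      have e : l₂ = [] := h.symm.eq_nil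
      subst e
      simp
    · have ih' : (l₁.map (io k)).prod - (l₂.map (io k)).prod ∈ G k L (l₁.length - 1 + 1) := by
        rwa [Nat.sub_add_cancel h0]
      exact G_mono (by omega) (mul_mem_G hx ih')
  | swap x y l =>
    simp only [List.map_cons, List.prod_cons, List.length_cons]
    rw [← mul_assoc, ← mul_assoc, ← sub_mul, ← io_lie]
    have := prod_mem_G (k := k) (⁅y, x⁆ :: l) (show (⁅y, x⁆ :: l).length < l.length + 1 + 1 by simp)
    simpa using this
  | trans h₁ h₂ ih₁ ih₂ =>
    rw [← h₁.length_eq] at ih₂
    simpa using Submodule.add_mem _ ih₁ ih₂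

theorem rho_mem_deg (x : L) {m : ℕ} {w : Sym' (Fin n) k} (hw : w ∈ deg k (Fin n) m) :
    rho b x w ∈ deg k (Fin n) (m + 1) := by
  rw [deg, Finsupp.supported_eq_span_single] at hw
  induction hw using Submodule.span_induction with
  | mem y hy =>
    obtain ⟨K, (hK : K.card ≤ m), rfl⟩ := hy
    rw [← b.sum_repr x, map_sum, LinearMap.sum_apply]
    refine Submodule.sum_mem _ fun l _ => ?_
    rw [map_smul, LinearMap.smul_apply]
    refine Submodule.smul_mem _ _ ?_
    show rho b (b l) (z k K) ∈ _
    have h1 := deg_mono (le_trans hK (Nat.le_succ m)) (rho_sub_mem b l K)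
    have h2 : z k (l ::ₘ K) ∈ deg k (Fin n) (m + 1) := z_mem_deg (by simp; omega)
    simpa using Submodule.add_mem _ h1 h2
  | zero => simp
  | add y y' _ _ h1 h2 => rw [map_add]; exact Submodule.add_mem _ h1 h2
  | smul r y _ h => rw [map_smul]; exact Submodule.smul_mem _ r h

theorem psi_io_mul (x : L) (a : U) : psi b (io k x * a) = rho b x (psi b a) := by
  simp only [psi, LinearMap.coe_comp, Function.comp_apply, AlgHom.toLinearMap_apply, map_mul,
    io_apply, UniversalEnvelopingAlgebra.lift_ι_apply, LinearMap.applyₗ_apply_apply, Module.End.mul_apply]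
  rfl

theorem psi_one : psi b (1 : U) = z k (0 : Multiset (Fin n)) := by
  simp [psi]

theorem psi_prod_mem (l : List L) : psi b (l.map (io k)).prod ∈ deg k (Fin n) l.length := by
  induction l with
  | nil => rw [List.map_nil, List.prod_nil, psi_one]; exact z_mem_deg (by simp)
  | cons x l ih => rw [List.map_cons, List.prod_cons, psi_io_mul]; exact rho_mem_deg b x ih

theorem psi_mem_lt {d : ℕ} {a : U} (ha : a ∈ G k L d) :
    psi b a ∈ Finsupp.supported k k {J : Multiset (Fin n) | J.card < d} := by
  induction ha using Submodule.span_induction with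
  | mem x hx =>
    obtain ⟨l, hl, rfl⟩ := hx
    exact Finsupp.supported_mono (M := k) (R := k) (fun (J : Multiset (Fin n)) (hJ : J.card ≤ l.length) =>
      (lt_of_le_of_lt hJ hl : J.card < d)) (psi_prod_mem b l)
  | zero => simp
  | add y z _ _ h1 h2 => rw [map_add]; exact Submodule.add_mem _ h1 h2
  | smul r y _ h => rw [map_smul]; exact Submodule.smul_mem _ r h

end Filt

section Central

/-- the central elements `x^p - φ x` -/
def zel (x : L) : U := io k x ^ p - io k (φ x)

theorem io_pow_comm (x y : L) : io k ((LieAlgebra.ad k L x ^ p) y) = io k x ^ p * io k y - io k y * io k x ^ p := by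
  haveI : Nontrivial U := (UniversalEnvelopingAlgebra.lift k (0 : L →ₗ⁅k⁆ k)).toRingHom.domain_nontrivial
  haveI : Nontrivial (Module.End k U) := by
    refine ⟨⟨1, 0, fun h => one_ne_zero (α := U) ?_⟩⟩
    simpa using LinearMap.congr_fun h (1 : U)
  haveI : CharP (Module.End k U) p := charP_of_injective_algebraMap (algebraMap k (Module.End k U)).injective p
  have key : ∀ m : ℕ, io k ((LieAlgebra.ad k L x ^ m) y) =
      ((LinearMap.mulLeft k (io k x) - LinearMap.mulRight k (io k x)) ^ m) (io k y) := by
    intro m
    induction m with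
    | zero => simp
    | succ m ih =>
      rw [pow_succ', pow_succ', Module.End.mul_apply, Module.End.mul_apply, ← ih, LieAlgebra.ad_apply,
        io_lie, LinearMap.sub_apply, LinearMap.mulLeft_apply, LinearMap.mulRight_apply]
  rw [key, sub_pow_char_of_commute p (LinearMap.commute_mulLeft_right (io k x) (io k x)),
    LinearMap.sub_apply, LinearMap.pow_mulLeft, LinearMap.pow_mulRight, LinearMap.mulLeft_apply,
    LinearMap.mulRight_apply]

theorem zel_comm_io (x y : L) : zel φ x * io k y = io k y * zel φ x := by
  have h := io_pow_comm (k := k) (p := p) x y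
  rw [← φ.ad_map, LieAlgebra.ad_apply, io_lie] at h
  rw [zel, sub_mul, mul_sub, sub_eq_sub_iff_sub_eq_sub]
  exact h.symm

theorem zel_mem_center (x : L) : zel φ x ∈ Subalgebra.center k U := by
  rw [Subalgebra.mem_center_iff]
  intro a
  induction a using induction with
  | hr r => exact Algebra.commutes r _
  | hi y => exact (zel_comm_io φ x y).symm
  | hm a c ha hc => rw [mul_assoc, hc, ← mul_assoc, ha, mul_assoc]
  | ha a c ha hc => rw [add_mul, mul_add, ha, hc]

theorem zel_add (x y : L) : zel φ (x + y) = zel φ x + zel φ y := by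
  rw [zel, zel, zel, φ.map_add, map_sub, map_add, map_add, PLieLib.map_jacobson_assoc (io k) io_lie]
  abel

theorem zel_smul (c : k) (x : L) : zel φ (c • x) = c ^ p • zel φ x := by
  rw [zel, zel, φ.map_smul, map_smul, map_smul, smul_pow, smul_sub]

theorem zel_sub_pow_mem (x : L) : zel φ x - io k x ^ p ∈ G k L p := by
  rw [zel, sub_sub_cancel_left]
  refine Submodule.neg_mem _ ?_
  simpa using prod_mem_G (k := k) [φ x] (Fact.out : p.Prime).one_lt

/-- `zel` of the basis, in the centre -/
def Z (i : Fin n) : Subalgebra.center k U := ⟨zel φ (b i), zel_mem_center φ (b i)⟩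

end Central

section Basis

/-- remainder exponents -/
def rPart (p : ℕ) (I : Multiset (Fin n)) : Multiset (Fin n) :=
  ∑ i, Multiset.replicate (I.count i % p) i

/-- quotient exponents -/
def qPart (p : ℕ) (I : Multiset (Fin n)) (i : Fin n) : ℕ := I.count i / p

theorem count_sum_replicate (f : Fin n → ℕ) (i : Fin n) :
    (∑ j, Multiset.replicate (f j) j).count i = f i := by
  rw [Multiset.count_sum']
  simp [Multiset.count_replicate]

theorem count_rPart (I : Multiset (Fin n)) (i : Fin n) : (rPart p I).count i = I.count i % p :=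
  count_sum_replicate _ i

/-- the new monomial -/
def wmon (I : Multiset (Fin n)) : U :=
  mono b (rPart p I) * (↑(∏ i, Z φ b i ^ qPart p I i : Subalgebra.center k U) : U)

/-- the list of letters of `wmon` -/
theorem exists_list_congr (q : Fin n → ℕ) (s : Finset (Fin n)) :
    ∃ l : List (Fin n), (l : Multiset (Fin n)) = ∑ i ∈ s, Multiset.replicate (p * q i) i ∧
      ∀ (m : List L), ((↑(∏ i ∈ s, Z φ b i ^ q i : Subalgebra.center k U) : U) * (m.map (io k)).prod -
        ((l.map b ++ m).map (io k)).prod ∈ G k L (l.length + m.length)) := by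
  have hp := (Fact.out : p.Prime).pos
  have step : ∀ (i : Fin n) (e : ℕ) (P : U) (l : List (Fin n)),
      (∀ m : List L, P * (m.map (io k)).prod - ((l.map b ++ m).map (io k)).prod ∈ G k L (l.length + m.length)) →
      ∀ m : List L, (Z φ b i : U) ^ e * P * (m.map (io k)).prod -
        (((List.replicate (p * e) i ++ l).map b ++ m).map (io k)).prod ∈
          G k L ((List.replicate (p * e) i ++ l).length + m.length) := by
    intro i e P l hP
    induction e with
    | zero => simpa using hP
    | succ e ih =>
      intro m
      have hlist : List.replicate (p * (e + 1)) i ++ l = List.replicate p i ++ (List.replicate (p * e) i ++ l) := by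
        rw [← List.append_assoc, List.replicate_append_replicate, Nat.mul_succ, Nat.add_comm p]
      rw [hlist, pow_succ' (Z φ b i : U) e, mul_assoc (Z φ b i : U), mul_assoc (Z φ b i : U)]
      set T := List.replicate (p * e) i ++ l
      have hX : io k (b i) ^ p = (((List.replicate p i).map b).map (io k)).prod := by simp
      set W := ((T.map b ++ m).map (io k)).prod with hWdef
      have hsum : (((List.replicate p i ++ T).map b ++ m).map (io k)).prod = io k (b i) ^ p * W := by
        rw [hX, hWdef]
        simp only [List.map_append, List.prod_append, mul_assoc]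
      rw [hsum, List.length_append, List.length_replicate]
      have hW : W ∈ G k L (T.length + m.length + 1) :=
        prod_mem_G _ (by simp)
      have hsplit : (Z φ b i : U) * ((Z φ b i : U) ^ e * P * (m.map (io k)).prod) - io k (b i) ^ p * W =
          (Z φ b i : U) * ((Z φ b i : U) ^ e * P * (m.map (io k)).prod - W) + (zel φ (b i) - io k (b i) ^ p) * W := by
        rw [mul_sub, sub_mul]
        show _ = _ + ((Z φ b i : U) * W - _)
        abel
      rw [hsplit]
      refine Submodule.add_mem _ ?_ ?_
      · have hZ : (Z φ b i : U) ∈ G k L (p + 1) := by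
          have h1 := G_mono (Nat.le_succ p) (zel_sub_pow_mem φ (b i))
          have h2 : io k (b i) ^ p ∈ G k L (p + 1) := by
            rw [hX]; exact prod_mem_G _ (by simp)
          simpa [Z] using Submodule.add_mem _ h1 h2
        rcases Nat.eq_zero_or_pos (T.length + m.length) with h0 | h0
        · have h' := ih m
          rw [h0, show G k L 0 = ⊥ by simp [G], Submodule.mem_bot] at h'
          rw [h', mul_zero]
          exact Submodule.zero_mem _
        · have := ih m
          rw [show T.length + m.length = T.length + m.length - 1 + 1 by omega] at this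
          exact G_mono (by omega) (mul_mem_G hZ this)
      · have h1 : zel φ (b i) - io k (b i) ^ p ∈ G k L (p - 1 + 1) :=
          G_mono (by omega) (zel_sub_pow_mem φ (b i))
        exact G_mono (by omega) (mul_mem_G h1 hW)
  induction s using Finset.induction with
  | empty => exact ⟨[], by simp, fun m => by simp⟩
  | insert i s hi ih =>
    obtain ⟨l, hl, hc⟩ := ih
    refine ⟨List.replicate (p * q i) i ++ l, ?_, ?_⟩
    · rw [Finset.sum_insert hi, ← Multiset.coe_add, hl, Multiset.coe_replicate]
    · rw [Finset.prod_insert hi, Subalgebra.coe_mul, SubmonoidClass.coe_pow]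
      exact step i (q i) _ l hc

theorem mono_eq (I : Multiset (Fin n)) :
    mono b I = (((I.sort (· ≤ ·)).map b).map (io k)).prod := by
  rw [mono, List.map_map]; rfl

theorem psi_wmon_sub (I : Multiset (Fin n)) :
    psi b (wmon φ b I) - z k I ∈ Finsupp.supported k k {J : Multiset (Fin n) | J.card < I.card} := by
  obtain ⟨l, hl, hc⟩ := exists_list_congr φ b (qPart p I) Finset.univ
  let m : List L := ((rPart p I).sort (· ≤ ·)).map b
  have hm : (m.map (io k)).prod = mono b (rPart p I) := (mono_eq b _).symm
  have hperm : (l ++ (rPart p I).sort (· ≤ ·) : List (Fin n)).Perm (I.sort (· ≤ ·)) := by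
    rw [← Multiset.coe_eq_coe, ← Multiset.coe_add, Multiset.sort_eq, Multiset.sort_eq, hl]
    ext i
    rw [Multiset.count_add, count_rPart, count_sum_replicate, qPart, Nat.div_add_mod]
  have h1 := hc m
  rw [hm, ← (Subalgebra.mem_center_iff.1 (↑(∏ i, Z φ b i ^ qPart p I i) : Subalgebra.center k U).2)] at h1
  have h2 := perm_sub_mem (k := k) (hperm.map b)
  have hlen : l.length + m.length = I.card := by
    have := hperm.length_eq
    simpa [m] using this
  rw [hlen] at h1
  rw [List.length_map, hperm.length_eq, Multiset.length_sort] at h2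
  have h3 : wmon φ b I - mono b I ∈ G k L I.card := by
    rw [List.map_append] at h2
    have h4 := Submodule.add_mem _ h1 h2
    rw [sub_add_sub_cancel, ← mono_eq] at h4
    exact h4
  have h5 := psi_mem_lt b h3
  rwa [map_sub, ← theta_z b I, psi_theta] at h5

/-- the change of monomials -/
def T : Sym' (Fin n) k →ₗ[k] Sym' (Fin n) k :=
  Finsupp.linearCombination k fun I => psi b (wmon φ b I)

theorem T_z (I : Multiset (Fin n)) : T φ b (z k I) = psi b (wmon φ b I) := by simp [T, z]

theorem T_bijective : Function.Bijective (T φ b) := by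
  have hlow : ∀ (d : ℕ) (w : Sym' (Fin n) k), w ∈ Finsupp.supported k k {J | J.card ≤ d} →
      T φ b w - w ∈ Finsupp.supported k k {J | J.card < d} := by
    intro d w hw
    rw [Finsupp.supported_eq_span_single] at hw
    induction hw using Submodule.span_induction with
    | mem y hy =>
      obtain ⟨J, (hJ : J.card ≤ d), rfl⟩ := hy
      show T φ b (z k J) - z k J ∈ _
      rw [T_z]
      exact Finsupp.supported_mono (M := k) (R := k) (fun (K : Multiset (Fin n)) (hK : K.card < J.card) =>
        (lt_of_lt_of_le hK hJ : K.card < d)) (psi_wmon_sub φ b J)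
    | zero => simp
    | add y y' _ _ h1 h2 => rw [map_add, add_sub_add_comm]; exact Submodule.add_mem _ h1 h2
    | smul r y _ h => rw [map_smul, ← smul_sub]; exact Submodule.smul_mem _ r h
  have hbound : ∀ w : Sym' (Fin n) k, ∃ d, w ∈ Finsupp.supported k k {J | J.card < d} := fun w =>
    ⟨w.support.sup Multiset.card + 1, fun J hJ => Nat.lt_succ_of_le (Finset.le_sup (f := Multiset.card) hJ)⟩
  constructor
  · refine (injective_iff_map_eq_zero _).2 fun w hw => ?_
    obtain ⟨d, hd⟩ := hbound w
    induction d with
    | zero => simpa [Finsupp.mem_supported] using hd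
    | succ d ih =>
      have h1 := hlow d w (fun J hJ => Nat.lt_succ_iff.1 (hd hJ))
      rw [hw, zero_sub, neg_mem_iff] at h1
      exact ih h1
  · intro w
    obtain ⟨d, hd⟩ := hbound w
    induction d generalizing w with
    | zero => exact ⟨0, by simpa [Finsupp.mem_supported, eq_comm] using hd⟩
    | succ d ih =>
      have h1 := hlow d w (fun J hJ => Nat.lt_succ_iff.1 (hd hJ))
      obtain ⟨v, hv⟩ := ih _ h1
      exact ⟨w - v, by rw [map_sub, hv, sub_sub_cancel]⟩

/-- the modified PBW basis -/
def wBasis : Basis (Multiset (Fin n)) k U :=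
  Basis.ofRepr (((LinearEquiv.ofBijective (T φ b) ⟨(T_bijective φ b).1, (T_bijective φ b).2⟩).trans
    (equiv b)).symm)

theorem wBasis_apply (I : Multiset (Fin n)) : wBasis φ b I = wmon φ b I := by
  rw [wBasis, Basis.coe_ofRepr, LinearEquiv.symm_symm]
  show equiv b (T φ b (z k I)) = _
  rw [T_z]
  show theta b (psi b (wmon φ b I)) = _
  obtain ⟨v, hv⟩ := theta_surjective b (wmon φ b I)
  rw [← hv, psi_theta]

theorem wmon_restricted {I : Multiset (Fin n)} (hI : ∀ i, I.count i < p) : wmon φ b I = mono b I := by
  have h1 : rPart p I = I := Multiset.ext.2 fun i => by rw [count_rPart, Nat.mod_eq_of_lt (hI i)]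
  have h2 : ∀ i, qPart p I i = 0 := fun i => Nat.div_eq_of_lt (hI i)
  simp [wmon, h1, h2]

theorem wmon_add (I : Multiset (Fin n)) (j : Fin n) :
    wmon φ b (I + Multiset.replicate p j) = wmon φ b I * (Z φ b j : U) := by
  have hp := (Fact.out : p.Prime).pos
  have h1 : rPart p (I + Multiset.replicate p j) = rPart p I := Multiset.ext.2 fun i => by
    rw [count_rPart, count_rPart, Multiset.count_add, Multiset.count_replicate]
    split_ifs <;> simp
  have h2 : ∀ i, qPart p (I + Multiset.replicate p j) i = qPart p I i + if i = j then 1 else 0 := by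
    intro i
    rw [qPart, qPart, Multiset.count_add, Multiset.count_replicate]
    split_ifs with h h' h'
    · exact Nat.add_div_right _ hp
    · exact absurd h.symm h'
    · exact absurd h'.symm h
    · simp
  rw [wmon, wmon, h1, mul_assoc, ← Subalgebra.coe_mul]
  simp only [h2, pow_add, Finset.prod_mul_distrib, pow_ite, pow_one, pow_zero, Finset.prod_ite_eq',
    Finset.mem_univ, if_true]

/-- the ideal generated by the `x^p - φ x` -/
def J : Ideal U := Ideal.span (Set.range fun i => (Z φ b i : U))

instance : (J φ b).IsTwoSided := by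
  refine ⟨fun {a} c ha => ?_⟩
  induction ha using Submodule.span_induction with
  | mem y hy =>
    obtain ⟨i, rfl⟩ := hy
    rw [← Subalgebra.mem_center_iff.1 (Z φ b i).2 c]
    exact Ideal.mul_mem_left _ _ (Ideal.subset_span ⟨i, rfl⟩)
  | zero => rw [zero_mul]; exact Submodule.zero_mem _
  | add x y _ _ hx hy => rw [add_mul]; exact Submodule.add_mem _ hx hy
  | smul r x _ hx => rw [smul_eq_mul, mul_assoc]; exact Ideal.mul_mem_left _ _ hx

theorem zel_mem_J (x : L) : zel φ x ∈ J φ b := by
  rw [← b.sum_repr x]
  induction (Finset.univ : Finset (Fin n)) using Finset.induction with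
  | empty =>
    rw [Finset.sum_empty, ← zero_smul k (0 : L), zel_smul, zero_pow (Fact.out : p.Prime).ne_zero, zero_smul]
    exact Submodule.zero_mem _
  | insert i s hi ih =>
    rw [Finset.sum_insert hi, zel_add, zel_smul, Algebra.smul_def]
    exact Submodule.add_mem _ (Ideal.mul_mem_left _ _ (Ideal.subset_span ⟨i, rfl⟩)) ih

theorem J_le_span {a : U} (ha : a ∈ J φ b) :
    a ∈ Submodule.span k (wmon φ b '' {I | ¬ ∀ i, I.count i < p}) := by
  set N := Submodule.span k (wmon φ b '' {I | ¬ ∀ i, I.count i < p})
  have hmul : ∀ (c : U) (j : Fin n), c * (Z φ b j : U) ∈ N := by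
    intro c j
    rw [← (wBasis φ b).linearCombination_repr c, Finsupp.linearCombination_apply, Finsupp.sum, Finset.sum_mul]
    refine Submodule.sum_mem _ fun I _ => ?_
    rw [smul_mul_assoc, wBasis_apply, ← wmon_add]
    refine Submodule.smul_mem _ _ (Submodule.subset_span ⟨_, fun h => ?_, rfl⟩)
    have := h j
    rw [Multiset.count_add, Multiset.count_replicate_self] at this
    omega
  rw [J, Ideal.span, Submodule.mem_span_range_iff_exists_fun] at ha
  obtain ⟨c, rfl⟩ := ha
  exact Submodule.sum_mem _ fun j _ => hmul (c j) j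

/-- the restricted enveloping algebra -/
abbrev Alg : Type max u v := U ⧸ J φ b

/-- the quotient map -/
def mk : U →ₐ[k] Alg φ b := Ideal.Quotient.mkₐ k (J φ b)

theorem mk_surjective : Function.Surjective (mk φ b) := Ideal.Quotient.mkₐ_surjective k _

/-- the map of `L` -/
def iL : L →ₗ[k] Alg φ b := (mk φ b).toLinearMap ∘ₗ io k

theorem iL_lie (x y : L) : iL φ b ⁅x, y⁆ = iL φ b x * iL φ b y - iL φ b y * iL φ b x := by
  simp [iL, io_lie]

theorem iL_pow (x : L) : iL φ b x ^ p = iL φ b (φ x) := by
  show mk φ b (io k x) ^ p = mk φ b (io k (φ x))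
  rw [← map_pow, ← sub_eq_zero, ← map_sub]
  exact Ideal.Quotient.eq_zero_iff_mem.2 (zel_mem_J φ b x)

/-- restricted exponents -/
abbrev Ix (n p : ℕ) : Type := {I : Multiset (Fin n) // ∀ i, I.count i < p}

instance (n : ℕ) : Finite (Ix n p) :=
  Finite.of_injective (fun I : Ix n p => fun i => (⟨I.1.count i, I.2 i⟩ : Fin p)) fun I I' h =>
    Subtype.ext (Multiset.ext.2 fun i => congrArg Fin.val (congrFun h i))

theorem rbasis_indep : LinearIndependent k fun I : Ix n p => mk φ b (mono b I.1) := by
  have h1 : LinearIndependent k fun I : Ix n p => wmon φ b I.1 := by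
    have := (wBasis φ b).linearIndependent
    rw [show (wBasis φ b : _ → U) = wmon φ b from funext (wBasis_apply φ b)] at this
    exact this.comp _ Subtype.val_injective
  have h2 := h1.map (f := (mk φ b).toLinearMap) (by
    rw [Submodule.disjoint_def]
    intro a ha hk
    have hk' : a ∈ Submodule.span k (wmon φ b '' {I | ¬ ∀ i, I.count i < p}) :=
      J_le_span φ b (Ideal.Quotient.eq_zero_iff_mem.1 hk)
    have hd := ((wBasis φ b).linearIndependent).disjoint_span_image
      (s := {I : Multiset (Fin n) | ∀ i, I.count i < p}) (t := {I | ¬ ∀ i, I.count i < p})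
      (Set.disjoint_left.2 fun I h h' => h' h)
    rw [show (wBasis φ b : _ → U) = wmon φ b from funext (wBasis_apply φ b), Submodule.disjoint_def] at hd
    refine hd a ?_ hk'
    rwa [Set.image_eq_range])
  have e : ((mk φ b).toLinearMap ∘ fun I : Ix n p => wmon φ b I.1) = fun I : Ix n p => mk φ b (mono b I.1) := by
    funext I
    rw [Function.comp_apply, wmon_restricted φ b I.2]
    rfl
  rw [e] at h2
  exact h2

theorem rbasis_span : ⊤ ≤ Submodule.span k (Set.range fun I : Ix n p => mk φ b (mono b I.1)) := by
  intro a _
  obtain ⟨c, rfl⟩ := mk_surjective φ b a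
  rw [← (wBasis φ b).linearCombination_repr c, Finsupp.linearCombination_apply, Finsupp.sum, map_sum]
  refine Submodule.sum_mem _ fun I _ => ?_
  rw [map_smul, wBasis_apply]
  refine Submodule.smul_mem _ _ ?_
  by_cases hI : ∀ i, I.count i < p
  · rw [wmon_restricted φ b hI]; exact Submodule.subset_span ⟨⟨I, hI⟩, rfl⟩
  · simp only [not_forall, not_lt] at hI
    obtain ⟨j, hj⟩ := hI
    have hle : Multiset.replicate p j ≤ I := Multiset.le_count_iff_replicate_le.1 hj
    rw [← Multiset.sub_add_cancel hle, wmon_add, map_mul]
    rw [show mk φ b (Z φ b j : U) = 0 from Ideal.Quotient.eq_zero_iff_mem.2 (Ideal.subset_span ⟨j, rfl⟩), mul_zero]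
    exact Submodule.zero_mem _

/-- the PBW basis of the restricted enveloping algebra -/
def rBasis : Basis (Ix n p) k (Alg φ b) := Basis.mk (rbasis_indep φ b) (rbasis_span φ b)

theorem rBasis_apply (I : Ix n p) : rBasis φ b I = mk φ b (mono b I.1) := by simp [rBasis]

theorem finite_alg : Module.Finite k (Alg φ b) := Module.Finite.of_basis (rBasis φ b)

theorem iL_injective : Function.Injective (iL φ b) := by
  have hp := (Fact.out : p.Prime).one_lt
  let e : Fin n → Ix n p := fun i => ⟨{i}, fun j => by
    rw [Multiset.count_singleton]; split_ifs <;> omega⟩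
  have he : Function.Injective e := fun i j h => Multiset.singleton_inj.1 (congrArg Subtype.val h)
  have h : LinearIndependent k (iL φ b ∘ b) := by
    have := (rBasis φ b).linearIndependent.comp e he
    convert this using 1
    funext i
    rw [Function.comp_apply, Function.comp_apply, rBasis_apply]
    show mk φ b (io k (b i)) = mk φ b (mono b {i})
    simp [mono, io_apply]
  refine (injective_iff_map_eq_zero _).2 fun x hx => ?_
  rw [← b.sum_repr x] at hx ⊢
  simp only [map_sum, map_smul] at hx
  have := Fintype.linearIndependent_iff.1 h _ hx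
  simp [this]

end Basis

end Groth.Agent.PBW.Res

end
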