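import Groth.Agent.PBW.Restricted
import Mathlib.RingTheory.HopfAlgebra.Basic

/-!
# The restricted enveloping algebra as a Hopf algebra, and its primitive elements
-/

noncomputable section

set_option autoImplicit false
set_option linter.unusedSectionVars false
set_option maxHeartbeats 1000000
set_option synthInstance.maxHeartbeats 100000

namespace Groth.Agent.PBW.Res

open Module PLie TensorProduct
open scoped Classical

universe u v w

attribute [local instance 100] LieRing.ofAssociativeRing

variable {k : Type u} [Field k] {p : ℕ} [Fact p.Prime] [CharP k p]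
variable {L : Type v} [LieRing L] [LieAlgebra k L] (φ : PMap k p L)
variable {n : ℕ} (b : Basis (Fin n) k L)

local notation "u" => Alg φ b
local notation "x[" e "]" => iL φ b e

theorem induction' {P : u → Prop} (hr : ∀ r : k, P (algebraMap k u r)) (hi : ∀ x : L, P x[x])
    (hm : ∀ a c, P a → P c → P (a * c)) (ha : ∀ a c, P a → P c → P (a + c)) (a : u) : P a := by
  obtain ⟨c, rfl⟩ := mk_surjective φ b a
  induction c using induction with
  | hr r => rw [AlgHom.commutes]; exact hr r
  | hi x => exact hi x
  | hm x y hx hy => rw [map_mul]; exact hm _ _ hx hy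
  | ha x y hx hy => rw [map_add]; exact ha _ _ hx hy

theorem algHom_ext {B : Type w} [Semiring B] [Algebra k B] {f g : u →ₐ[k] B}
    (h : ∀ x, f x[x] = g x[x]) : f = g := by
  refine AlgHom.ext fun a => ?_
  induction a using induction' φ b with
  | hr r => rw [AlgHom.commutes, AlgHom.commutes]
  | hi x => exact h x
  | hm x y hx hy => rw [map_mul, map_mul, hx, hy]
  | ha x y hx hy => rw [map_add, map_add, hx, hy]

/-- universal property -/
def lift {B : Type w} [Ring B] [Algebra k B] (f : L →ₗ[k] B)
    (h1 : ∀ x y, f ⁅x, y⁆ = f x * f y - f y * f x) (h2 : ∀ x, f x ^ p = f (φ x)) : u →ₐ[k] B :=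
  Ideal.Quotient.liftₐ (J φ b)
    (UniversalEnvelopingAlgebra.lift k
      ({ f with map_lie' := fun {x y} => (h1 x y).trans (LieRing.of_associative_ring_bracket _ _).symm } :
        L →ₗ⁅k⁆ B))
    (fun a ha => by
      induction ha using Submodule.span_induction with
      | mem y hy =>
        obtain ⟨i, rfl⟩ := hy
        show UniversalEnvelopingAlgebra.lift k _ (zel φ (b i)) = 0
        rw [zel, map_sub, map_pow, io_apply, io_apply, UniversalEnvelopingAlgebra.lift_ι_apply,
          UniversalEnvelopingAlgebra.lift_ι_apply]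
        exact sub_eq_zero.2 (h2 _)
      | zero => exact map_zero _
      | add y z _ _ hy hz => rw [map_add, hy, hz, add_zero]
      | smul r y _ hy => rw [smul_eq_mul, map_mul, hy, mul_zero])

@[simp] theorem lift_iL {B : Type w} [Ring B] [Algebra k B] (f : L →ₗ[k] B)
    (h1 : ∀ x y, f ⁅x, y⁆ = f x * f y - f y * f x) (h2 : ∀ x, f x ^ p = f (φ x)) (x : L) :
    lift φ b f h1 h2 x[x] = f x := by
  show UniversalEnvelopingAlgebra.lift k _ (io k x) = f x
  rw [io_apply, UniversalEnvelopingAlgebra.lift_ι_apply]
  rfl

/-- the counit -/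
def eps : u →ₐ[k] k :=
  lift φ b 0 (fun x y => by simp) fun x => by simp [(Fact.out : p.Prime).ne_zero]

@[simp] theorem eps_iL (x : L) : eps φ b x[x] = 0 := by simp [eps]

instance : Nontrivial (Alg φ b) := (eps φ b).toRingHom.domain_nontrivial

theorem charP_tensor : CharP (u ⊗[k] u) p := by
  haveI : Nontrivial (u ⊗[k] u) :=
    ((Algebra.TensorProduct.lmul' k (S := k)).comp
      (Algebra.TensorProduct.map (eps φ b) (eps φ b))).toRingHom.domain_nontrivial
  exact charP_of_injective_algebraMap (algebraMap k (u ⊗[k] u)).injective p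

/-- `x ↦ x ⊗ 1 + 1 ⊗ x` -/
def prim : L →ₗ[k] u ⊗[k] u :=
  (TensorProduct.mk k u u).flip 1 ∘ₗ iL φ b + TensorProduct.mk k u u 1 ∘ₗ iL φ b

theorem prim_apply (x : L) : prim φ b x = x[x] ⊗ₜ[k] 1 + 1 ⊗ₜ[k] x[x] := rfl

/-- the comultiplication -/
def delta : u →ₐ[k] u ⊗[k] u :=
  lift φ b (prim φ b)
    (fun x y => by
      simp only [prim_apply, iL_lie, mul_add, add_mul, Algebra.TensorProduct.tmul_mul_tmul, mul_one, one_mul,
        TensorProduct.sub_tmul, TensorProduct.tmul_sub]
      abel)
    (fun x => by
      haveI := charP_tensor φ b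
      have hc : Commute (x[x] ⊗ₜ[k] (1 : u)) ((1 : u) ⊗ₜ[k] x[x]) := by
        simp [Commute, SemiconjBy, Algebra.TensorProduct.tmul_mul_tmul]
      rw [prim_apply, prim_apply, add_pow_char_of_commute p hc, Algebra.TensorProduct.tmul_pow,
        Algebra.TensorProduct.tmul_pow, one_pow, iL_pow])

@[simp] theorem delta_iL (x : L) : delta φ b x[x] = x[x] ⊗ₜ[k] 1 + 1 ⊗ₜ[k] x[x] := by
  simp [delta, prim_apply]

theorem neg_pow_p {B : Type w} [Ring B] [Algebra k B] (a : B) : (-a) ^ p = -(a ^ p) := by
  have h : ((-1 : k) • a) ^ p = (-1 : k) • a ^ p := by rw [smul_pow, neg_one_pow_char k p]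
  simpa using h

/-- the antipode as an algebra map to the opposite algebra -/
def antiHom : u →ₐ[k] uᵐᵒᵖ :=
  lift φ b (-(MulOpposite.opLinearEquiv k).toLinearMap ∘ₗ iL φ b)
    (fun x y => by
      apply MulOpposite.unop_injective
      simp [iL_lie])
    (fun x => by
      apply MulOpposite.unop_injective
      simp [neg_pow_p (k := k), iL_pow])

/-- the antipode -/
def anti : u →ₗ[k] u := (MulOpposite.opLinearEquiv k).symm.toLinearMap ∘ₗ (antiHom φ b).toLinearMap

theorem anti_one : anti φ b 1 = 1 := by simp [anti]

theorem anti_iL (x : L) : anti φ b x[x] = -x[x] := by simp [anti, antiHom]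

theorem anti_mul (a c : u) : anti φ b (a * c) = anti φ b c * anti φ b a := by simp [anti]

/-- the bialgebra structure -/
@[reducible] def bialg : Bialgebra k u :=
  Bialgebra.ofAlgHom (delta φ b) (eps φ b)
    (algHom_ext φ b fun x => by
      simp [TensorProduct.tmul_add, TensorProduct.add_tmul, add_assoc, Algebra.TensorProduct.one_def])
    (algHom_ext φ b fun x => by simp)
    (algHom_ext φ b fun x => by simp)

theorem anti_rTensor (a : u) :
    LinearMap.mul' k u ((anti φ b).rTensor u (delta φ b a)) = algebraMap k u (eps φ b a) := by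
  induction a using induction' φ b with
  | hr r =>
    rw [AlgHom.commutes, AlgHom.commutes, Algebra.algebraMap_eq_smul_one, map_smul, map_smul,
      Algebra.TensorProduct.one_def, LinearMap.rTensor_tmul, LinearMap.mul'_apply, anti_one, one_mul,
      Algebra.algebraMap_self, RingHom.id_apply, Algebra.algebraMap_eq_smul_one]
  | hi x => simp [anti_one, anti_iL]
  | hm a c ha hc =>
    rw [map_mul (delta φ b), map_mul (eps φ b), map_mul (algebraMap k u), ← ha, ← hc]
    have key : ∀ z w : u ⊗[k] u, ∀ r : k,
        LinearMap.mul' k u ((anti φ b).rTensor u z) = algebraMap k u r →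
        LinearMap.mul' k u ((anti φ b).rTensor u (z * w)) =
          algebraMap k u r * LinearMap.mul' k u ((anti φ b).rTensor u w) := by
      intro z w r hz
      rw [← hz]
      induction w using TensorProduct.induction_on with
      | zero => simp
      | add p q hp hq => simp only [mul_add, map_add, hp, hq]
      | tmul c₁ c₂ =>
        have h1 : LinearMap.mul' k u ((anti φ b).rTensor u (z * c₁ ⊗ₜ[k] c₂)) =
            anti φ b c₁ * LinearMap.mul' k u ((anti φ b).rTensor u z) * c₂ := by
          clear hz
          induction z using TensorProduct.induction_on with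
          | zero => simp
          | add p q hp hq => simp only [add_mul, mul_add, map_add, hp, hq]
          | tmul a₁ a₂ => simp [anti_mul, mul_assoc]
        rw [h1, hz, LinearMap.rTensor_tmul, LinearMap.mul'_apply, ← mul_assoc, Algebra.commutes r]
    rw [key _ _ _ ha, ha]
  | ha a c ha hc => simp only [map_add, ha, hc]

theorem anti_lTensor (a : u) :
    LinearMap.mul' k u ((anti φ b).lTensor u (delta φ b a)) = algebraMap k u (eps φ b a) := by
  induction a using induction' φ b with
  | hr r =>
    rw [AlgHom.commutes, AlgHom.commutes, Algebra.algebraMap_eq_smul_one, map_smul, map_smul,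
      Algebra.TensorProduct.one_def, LinearMap.lTensor_tmul, LinearMap.mul'_apply, anti_one, one_mul,
      Algebra.algebraMap_self, RingHom.id_apply, Algebra.algebraMap_eq_smul_one]
  | hi x => simp [anti_one, anti_iL]
  | hm a c ha hc =>
    rw [map_mul (delta φ b), map_mul (eps φ b), map_mul (algebraMap k u), ← ha, ← hc]
    have key : ∀ z w : u ⊗[k] u, ∀ r : k,
        LinearMap.mul' k u ((anti φ b).lTensor u w) = algebraMap k u r →
        LinearMap.mul' k u ((anti φ b).lTensor u (z * w)) =
          LinearMap.mul' k u ((anti φ b).lTensor u z) * algebraMap k u r := by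
      intro z w r hw
      rw [← hw]
      induction z using TensorProduct.induction_on with
      | zero => simp
      | add p q hp hq => simp only [add_mul, map_add, hp, hq]
      | tmul a₁ a₂ =>
        have h1 : LinearMap.mul' k u ((anti φ b).lTensor u (a₁ ⊗ₜ[k] a₂ * w)) =
            a₁ * LinearMap.mul' k u ((anti φ b).lTensor u w) * anti φ b a₂ := by
          clear hw
          induction w using TensorProduct.induction_on with
          | zero => simp
          | add p q hp hq => simp only [add_mul, mul_add, map_add, hp, hq]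
          | tmul c₁ c₂ => simp [anti_mul, mul_assoc]
        rw [h1, hw, LinearMap.lTensor_tmul, LinearMap.mul'_apply, mul_assoc, Algebra.commutes r, mul_assoc]
    rw [key _ _ _ hc, hc]
  | ha a c ha hc => simp only [map_add, ha, hc]

/-- the Hopf algebra structure -/
@[reducible] def hopf : HopfAlgebra k u :=
  letI := bialg φ b
  { antipode := anti φ b
    mul_antipode_rTensor_comul := LinearMap.ext (anti_rTensor φ b)
    mul_antipode_lTensor_comul := LinearMap.ext (anti_lTensor φ b) }

theorem comm_delta (a : u) : TensorProduct.comm k u u (delta φ b a) = delta φ b a := by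
  suffices h : (Algebra.TensorProduct.comm k u u).toAlgHom.comp (delta φ b) = delta φ b from
    DFunLike.congr_fun h a
  exact algHom_ext φ b fun x => by simp [add_comm]

section Primitive

theorem mk_mono_cons {i : Fin n} {I : Multiset (Fin n)} (h : ∀ x ∈ I, i ≤ x) :
    mk φ b (mono b (i ::ₘ I)) = x[b i] * mk φ b (mono b I) := by
  rw [mono_cons b h, map_mul]; rfl

theorem mk_mono_zero : mk φ b (mono b (0 : Multiset (Fin n))) = 1 := by simp [mono]

/-- partial pairing -/
def pair1 (g : u →ₗ[k] k) : u ⊗[k] u →ₗ[k] u := (TensorProduct.lid k u).toLinearMap ∘ₗ g.rTensor u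

theorem pair1_delta_cons (g : u →ₗ[k] k) (x : L) (a : u) :
    pair1 φ b g (delta φ b (x[x] * a)) =
      pair1 φ b (g ∘ₗ LinearMap.mulLeft k x[x]) (delta φ b a) + x[x] * pair1 φ b g (delta φ b a) := by
  rw [map_mul, delta_iL, add_mul, map_add]
  generalize delta φ b a = z
  congr 1
  · induction z using TensorProduct.induction_on with
    | zero => simp
    | add p q hp hq => simp only [mul_add, map_add, hp, hq]
    | tmul p q => simp [pair1]
  · induction z using TensorProduct.induction_on with
    | zero => simp
    | add p q hp hq => simp only [mul_add, map_add, hp, hq]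
    | tmul p q => simp [pair1]

theorem pair1_of_kills (g : u →ₗ[k] k) (I : Multiset (Fin n))
    (h : ∀ K ≤ I, K ≠ 0 → g (mk φ b (mono b K)) = 0) :
    pair1 φ b g (delta φ b (mk φ b (mono b I))) = g 1 • mk φ b (mono b I) := by
  induction I using Multiset.strongInductionOn generalizing g with
  | _ I ih =>
    by_cases hI : I = 0
    · subst hI
      rw [mk_mono_zero, map_one, Algebra.TensorProduct.one_def]
      simp [pair1]
    · obtain ⟨i, I', hle, rfl⟩ : ∃ i I', (∀ x ∈ I', i ≤ x) ∧ I = i ::ₘ I' :=
        ⟨lo I hI, I.erase (lo I hI), fun x hx => lo_le I hI (Multiset.mem_of_mem_erase hx),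
          (Multiset.cons_erase (lo_mem I hI)).symm⟩
      have hlt : I' < i ::ₘ I' := Multiset.lt_cons_self _ _
      have hg1 : ∀ K ≤ I', (g ∘ₗ LinearMap.mulLeft k x[b i]) (mk φ b (mono b K)) = 0 := fun K hK => by
        rw [LinearMap.comp_apply, LinearMap.mulLeft_apply,
          ← mk_mono_cons φ b fun x hx => hle x (Multiset.mem_of_le hK hx)]
        exact h _ ((Multiset.cons_le_cons_iff i).2 hK) (Multiset.cons_ne_zero)
      rw [mk_mono_cons φ b hle, pair1_delta_cons, ih I' hlt _ fun K hK _ => hg1 K hK,
        ih I' hlt g fun K hK hK0 => h K (hK.trans hlt.le) hK0]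
      have h0 := hg1 0 (Multiset.zero_le _)
      rw [mk_mono_zero] at h0
      rw [h0, zero_smul, zero_add, mul_smul_comm]

theorem pair1_of_delta (g : u →ₗ[k] k) (i : Fin n) (I : Multiset (Fin n))
    (h1 : g 1 = 0) (h : ∀ K ≤ I, g (mk φ b (mono b K)) = if K = {i} then 1 else 0) :
    pair1 φ b g (delta φ b (mk φ b (mono b I))) = (I.count i : k) • mk φ b (mono b (I.erase i)) := by
  induction I using Multiset.strongInductionOn with
  | _ I ih =>
    by_cases hI : I = 0
    · subst hI
      rw [mk_mono_zero, map_one, Algebra.TensorProduct.one_def]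
      simp [pair1, h1]
    · obtain ⟨j, I', hle, rfl⟩ : ∃ j I', (∀ x ∈ I', j ≤ x) ∧ I = j ::ₘ I' :=
        ⟨lo I hI, I.erase (lo I hI), fun x hx => lo_le I hI (Multiset.mem_of_mem_erase hx),
          (Multiset.cons_erase (lo_mem I hI)).symm⟩
      have hlt : I' < j ::ₘ I' := Multiset.lt_cons_self _ _
      have hg1 : ∀ K ≤ I', (g ∘ₗ LinearMap.mulLeft k x[b j]) (mk φ b (mono b K)) =
          if j ::ₘ K = {i} then 1 else 0 := fun K hK => by
        rw [LinearMap.comp_apply, LinearMap.mulLeft_apply,
          ← mk_mono_cons φ b fun x hx => hle x (Multiset.mem_of_le hK hx)]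
        exact h _ ((Multiset.cons_le_cons_iff j).2 hK)
      rw [mk_mono_cons φ b hle, pair1_delta_cons,
        pair1_of_kills φ b _ I' fun K hK hK0 => by
          rw [hg1 K hK, if_neg]
          intro e
          have := congrArg Multiset.card e
          simp at this
          exact hK0 this,
        ih I' hlt fun K hK => h K (hK.trans hlt.le)]
      have h0 := hg1 0 (Multiset.zero_le _)
      rw [mk_mono_zero] at h0
      rw [h0, mul_smul_comm]
      by_cases hij : i = j
      · subst hij
        rw [if_pos (Multiset.cons_zero _), Multiset.count_cons_self, Multiset.erase_cons_head, Nat.cast_add, Nat.cast_one,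
          add_smul, one_smul, add_comm]
        by_cases hi : i ∈ I'
        · rw [← mk_mono_cons φ b (fun x hx => hle x (Multiset.mem_of_mem_erase hx)), Multiset.cons_erase hi]
        · rw [Multiset.count_eq_zero.2 hi, Nat.cast_zero, zero_smul, zero_smul]
      · rw [if_neg (by simpa [Multiset.singleton_inj] using fun e => hij e.symm), zero_smul, zero_add,
          Multiset.count_cons_of_ne hij, Multiset.erase_cons_tail _ (Ne.symm hij),
          mk_mono_cons φ b (fun x hx => hle x (Multiset.mem_of_mem_erase hx))]

theorem eq_iL_of_primitive {t : u} (ht : delta φ b t = t ⊗ₜ[k] 1 + 1 ⊗ₜ[k] t) : ∃ x, x[x] = t := by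
  have hp := (Fact.out : p.Prime).one_lt
  set B := rBasis φ b
  let o : Ix n p := ⟨0, fun j => by simp; omega⟩
  let s : Fin n → Ix n p := fun i => ⟨{i}, fun j => by
    rw [Multiset.count_singleton]; split_ifs <;> omega⟩
  have ho : B o = 1 := by rw [rBasis_apply]; exact mk_mono_zero φ b
  haveI := Fintype.ofFinite (Ix n p)
  have heps : ∀ I : Ix n p, I ≠ o → eps φ b (B I) = 0 := by
    rintro ⟨I, hI⟩ hne
    have hI0 : I ≠ 0 := fun e => hne (Subtype.ext e)
    rw [rBasis_apply]
    show eps φ b (mk φ b (mono b I)) = 0
    rw [show I = lo I hI0 ::ₘ I.erase (lo I hI0) from (Multiset.cons_erase (lo_mem I hI0)).symm,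
      mk_mono_cons φ b (fun x hx => lo_le I hI0 (Multiset.mem_of_mem_erase hx)), map_mul, eps_iL, zero_mul]
  have h0 : B.repr t o = 0 := by
    have e : eps φ b t = B.repr t o := by
      conv_lhs => rw [← B.sum_repr t]
      rw [map_sum, Finset.sum_eq_single o (fun I _ hI => by rw [map_smul, heps I hI, smul_zero])
        (by simp), map_smul, ho, map_one, smul_eq_mul, mul_one]
    have e2 : ∀ a : u, (Algebra.TensorProduct.lmul' k).comp
        (Algebra.TensorProduct.map (eps φ b) (eps φ b)) (delta φ b a) = eps φ b a := fun a =>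
      DFunLike.congr_fun (algHom_ext φ b
        (f := ((Algebra.TensorProduct.lmul' k).comp (Algebra.TensorProduct.map (eps φ b) (eps φ b))).comp (delta φ b))
        (g := eps φ b) fun x => by simp) a
    have := e2 t
    simp [ht] at this
    rw [← e]
    linear_combination this
  have hzero : ∀ I : Ix n p, 2 ≤ I.1.card → B.repr t I = 0 := by
    rintro ⟨I, hI⟩ (hc : 2 ≤ I.card)
    obtain ⟨i, hi⟩ := Multiset.card_pos_iff_exists_mem.1 (show 0 < I.card by omega)
    let g : u →ₗ[k] k := B.coord (s i)
    have hg : ∀ K : Multiset (Fin n), ∀ hK : (∀ j, K.count j < p),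
        g (mk φ b (mono b K)) = if K = {i} then 1 else 0 := by
      intro K hK
      rw [← rBasis_apply φ b ⟨K, hK⟩]
      show B.repr (B ⟨K, hK⟩) (s i) = _
      rw [B.repr_self, Finsupp.single_apply]
      simp only [s, Subtype.ext_iff]
    have hg1 : g 1 = 0 := by
      rw [← mk_mono_zero φ b, hg 0 (fun j => by simp; omega), if_neg]
      exact fun h => by simpa using congrArg Multiset.card h
    have e := congrArg (pair1 φ b g) ht
    have er : pair1 φ b g (t ⊗ₜ[k] 1 + 1 ⊗ₜ[k] t) = g t • 1 := by
      simp [pair1, hg1]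
    rw [er] at e
    conv_lhs at e => rw [← B.sum_repr t]
    simp only [map_sum, map_smul] at e
    let I' : Ix n p := ⟨I.erase i, fun j => lt_of_le_of_lt (Multiset.count_le_of_le j (Multiset.erase_le _ _)) (hI j)⟩
    have hI'o : o ≠ I' := fun h => by
      have := congrArg (fun J : Ix n p => J.1.card) h
      simp [o, I', Multiset.card_erase_of_mem hi] at this
      omega
    have e' := congrArg (fun v => B.repr v I') e
    simp only [map_sum, map_smul, Finsupp.coe_finsetSum, Finset.sum_apply, Finsupp.smul_apply] at e'
    rw [← ho, B.repr_self, Finsupp.single_eq_of_ne hI'o.symm, smul_zero,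
      Finset.sum_eq_single (⟨I, hI⟩ : Ix n p) ?_ (by simp)] at e'
    · rw [rBasis_apply, pair1_of_delta φ b g i I hg1
        (fun K hK => hg K fun j => lt_of_le_of_lt (Multiset.count_le_of_le j hK) (hI j))] at e'
      rw [← rBasis_apply φ b I', map_smul, Finsupp.smul_apply, B.repr_self, Finsupp.single_eq_same,
        smul_eq_mul, smul_eq_mul, mul_one] at e'
      refine (mul_eq_zero.1 e').resolve_right ?_
      rw [CharP.cast_eq_zero_iff k p]
      exact fun h => absurd (Nat.le_of_dvd (Multiset.count_pos.2 hi) h) (not_le.2 (hI i))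
    · rintro ⟨K, hK⟩ - hne
      rw [rBasis_apply, pair1_of_delta φ b g i K hg1
        (fun J hJ => hg J fun j => lt_of_le_of_lt (Multiset.count_le_of_le j hJ) (hK j))]
      by_cases hiK : i ∈ K
      · rw [← rBasis_apply φ b ⟨K.erase i, fun j =>
          lt_of_le_of_lt (Multiset.count_le_of_le j (Multiset.erase_le _ _)) (hK j)⟩, map_smul,
          Finsupp.smul_apply, B.repr_self, Finsupp.single_eq_of_ne, smul_zero, smul_zero]
        intro h
        apply hne
        have h' : K.erase i = I.erase i := congrArg Subtype.val h.symm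
        exact Subtype.ext (show K = I by rw [← Multiset.cons_erase hiK, h', Multiset.cons_erase hi])
      · rw [Multiset.count_eq_zero.2 hiK, Nat.cast_zero, zero_smul, map_zero, Finsupp.zero_apply, smul_zero]
  refine ⟨∑ i, B.repr t (s i) • b i, ?_⟩
  conv_rhs => rw [← B.sum_repr t]
  rw [map_sum]
  have hs : Function.Injective s := fun i j h => Multiset.singleton_inj.1 (congrArg Subtype.val h)
  rw [← Finset.sum_subset (Finset.subset_univ (Finset.univ.image s)) fun I _ hI => ?_,
    Finset.sum_image fun i _ j _ h => hs h]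
  · refine Finset.sum_congr rfl fun i _ => ?_
    rw [map_smul, rBasis_apply]
    simp [s, mono, iL, io_apply]
  · rcases Nat.lt_or_ge I.1.card 2 with h | h
    · rcases Nat.lt_or_ge I.1.card 1 with h' | h'
      · have : I = o := Subtype.ext (Multiset.card_eq_zero.1 (by omega))
        rw [this, h0, zero_smul]
      · obtain ⟨i, hi⟩ := Multiset.card_eq_one.1 (show I.1.card = 1 by omega)
        exact absurd (Finset.mem_image.2 ⟨i, Finset.mem_univ _, Subtype.ext hi.symm⟩) hI
    · rw [hzero I h, zero_smul]

end Primitive

end Groth.Agent.PBW.Res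

end
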